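import Mathlib.RingTheory.Smooth.StandardSmoothOfFree
import Mathlib.RingTheory.Smooth.Basic
import Mathlib.RingTheory.Etale.Kaehler
import Mathlib.RingTheory.Kaehler.Polynomial
import Mathlib.RingTheory.Finiteness.Nakayama

set_option autoImplicit false

open MvPolynomial KaehlerDifferential TensorProduct

universe u

namespace Groth.Agent.Smoothing

/-- Differentials which generate and are split independent near a point give standard smoothness. -/
lemma isStandardSmooth_away_of_differentials {R B : Type u} [CommRing R] [CommRing B] [Algebra R B]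
    [Algebra.Smooth R B] {n : ℕ} (u : Fin n → B) (Ψ : Ω[B⁄R] →ₗ[B] (Fin n → B)) (g : B)
    (hg : ∀ ω, g • ω ∈ Submodule.span B (Set.range fun i => D R B (u i))) (d : B)
    (hd : d = g * (Matrix.of fun i j => Ψ (D R B (u j)) i).det) :
    Algebra.IsStandardSmooth R (Localization.Away d) := by
  classical
  let Bd := Localization.Away d
  let N : Matrix (Fin n) (Fin n) B := Matrix.of fun i j => Ψ (D R B (u j)) i
  have hdu : IsUnit (algebraMap B Bd d) := IsLocalization.Away.algebraMap_isUnit d
  rw [congrArg (algebraMap B Bd) hd, map_mul, IsUnit.mul_iff] at hdu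
  obtain ⟨hgu, hNu⟩ := hdu
  have : Algebra.FormallyEtale B Bd := .of_isLocalization (Submonoid.powers d)
  have : Algebra.FinitePresentation B Bd := IsLocalization.Away.finitePresentation d
  have : Algebra.Smooth B Bd := ⟨inferInstance, inferInstance⟩
  have : Algebra.Smooth R Bd := Algebra.Smooth.comp R B Bd
  let hbc : IsBaseChange Bd (KaehlerDifferential.map R R B Bd) :=
    KaehlerDifferential.isBaseChange_of_formallyEtale R B Bd
  let Ψd : Ω[Bd⁄R] →ₗ[Bd] (Fin n → Bd) :=
    hbc.lift ((LinearMap.pi fun i => (Algebra.linearMap B Bd).comp (LinearMap.proj i)).comp Ψ)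
  let v : Fin n → Ω[Bd⁄R] := fun i => D R Bd (algebraMap B Bd (u i))
  have hli : LinearIndependent Bd v := by
    refine LinearIndependent.of_comp Ψd ?_
    have : Ψd ∘ v = ((algebraMap B Bd).mapMatrix N).col := by
      ext j i
      simp only [Function.comp_apply, v, Ψd]
      rw [← KaehlerDifferential.map_D R R B Bd, hbc.lift_eq]
      rfl
    rw [this]
    refine Matrix.linearIndependent_cols_of_isUnit ?_
    rw [Matrix.isUnit_iff_isUnit_det, ← RingHom.map_det]
    exact hNu
  have hsp : ⊤ ≤ Submodule.span Bd (Set.range v) := by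
    refine (KaehlerDifferential.span_range_map_derivation_of_isLocalization R B Bd
      (Submonoid.powers d)).ge.trans (Submodule.span_le.mpr ?_)
    rintro _ ⟨b, rfl⟩
    obtain ⟨c, hc⟩ := (Submodule.mem_span_range_iff_exists_fun B).mp (hg (D R B b))
    refine (Submodule.smul_mem_iff_of_isUnit _ hgu).mp ?_
    rw [algebraMap_smul, Function.comp_apply, ← map_smul, ← hc, map_sum]
    refine Submodule.sum_mem _ fun i _ => ?_
    rw [map_smul, ← algebraMap_smul Bd (c i)]
    exact Submodule.smul_mem _ _
      (Submodule.subset_span ⟨i, (KaehlerDifferential.map_D R R B Bd (u i)).symm⟩)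
  refine Algebra.IsStandardSmooth.of_basis_kaehlerDifferential (Module.Basis.mk hli hsp) ?_
  rintro _ ⟨i, rfl⟩
  exact ⟨algebraMap B Bd (u i), (Module.Basis.mk_apply hli hsp i).symm⟩

variable (R A : Type u) [CommRing R] [CommRing A] [Algebra R A]

/-- A smooth algebra is a retract of a standard smooth algebra which is smooth over it. -/
theorem exists_standardSmooth_retract [Algebra.Smooth R A] :
    ∃ (B : Type u) (_ : CommRing B) (_ : Algebra R B) (_ : Algebra A B) (_ : IsScalarTower R A B),
      Algebra.Smooth A B ∧ Nonempty (B →ₐ[A] A) ∧ Algebra.IsStandardSmooth R B := by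
  classical
  obtain ⟨n, φ, hφ⟩ :=
    Algebra.FiniteType.iff_quotient_mvPolynomial''.mp (inferInstance : Algebra.FiniteType R A)
  let x : Fin n → A := fun i => φ (X i)
  let π : (Fin n → A) →ₗ[A] Ω[A⁄R] := Fintype.linearCombination A fun i => D R A (x i)
  have hπ : Function.Surjective π := by
    rw [← LinearMap.range_eq_top, Fintype.range_linearCombination, ← top_le_iff,
      ← KaehlerDifferential.span_range_derivation, Submodule.span_le]
    rintro _ ⟨a, rfl⟩
    obtain ⟨p, rfl⟩ := hφ a
    induction p using MvPolynomial.induction_on with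
    | C r => simp [← MvPolynomial.algebraMap_eq]
    | add p q hp hq => simp only [map_add]; exact Submodule.add_mem _ hp hq
    | mul_X p i hp =>
      simp only [map_mul, Derivation.leibniz]
      exact Submodule.add_mem _ (Submodule.smul_mem _ _ (Submodule.subset_span ⟨i, rfl⟩))
        (Submodule.smul_mem _ _ hp)
  obtain ⟨s, hs⟩ := Module.projective_lifting_property π LinearMap.id hπ
  have hs' : ∀ ω, π (s ω) = ω := LinearMap.congr_fun hs
  let e : Fin n → Fin n → A := fun i => Pi.single i 1 - s (π (Pi.single i 1))
  have hπe : ∀ i, π (e i) = 0 := fun i => by simp [e, hs']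
  have hecomb : ∀ c : Fin n → A, ∑ i, c i • e i = c - s (π c) := fun c => by
    simp only [e, smul_sub, Finset.sum_sub_distrib, ← map_smul, ← map_sum,
      ← pi_eq_sum_univ' c]
  -- the rank-complementing algebra
  let g : Fin n → MvPolynomial (Fin n) A := fun j => X j - ∑ i, C (e j i) * X i
  let J : Ideal (MvPolynomial (Fin n) A) := Ideal.span (Set.range g)
  let B := MvPolynomial (Fin n) A ⧸ J
  let y : Fin n → B := fun i => Ideal.Quotient.mk J (X i)
  have hy : ∀ j, y j = ∑ i, algebraMap A B (e j i) * y i := fun j => by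
    have h : Ideal.Quotient.mk J (g j) = 0 :=
      Ideal.Quotient.eq_zero_iff_mem.mpr (Ideal.subset_span ⟨j, rfl⟩)
    simp only [g, map_sub, map_sum, map_mul, sub_eq_zero] at h
    exact h
  -- `B` is smooth over `A`
  let σ₀ : MvPolynomial (Fin n) A →ₐ[A] MvPolynomial (Fin n) A :=
    aeval fun j => ∑ i, C (e j i) * X i
  have hσ₀ : ∀ z ∈ J, σ₀ z = 0 := by
    intro z hz
    suffices J ≤ RingHom.ker σ₀ from this hz
    rw [Ideal.span_le]
    rintro _ ⟨j, rfl⟩
    have hee : ∀ k, ∑ i, e j i * e i k = e j k := fun k => by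
      have := congrFun (hecomb (e j)) k
      simpa [hπe, Finset.sum_apply] using this
    simp only [SetLike.mem_coe, RingHom.mem_ker, g, map_sub, map_sum, map_mul, σ₀, aeval_X, aeval_C,
      MvPolynomial.algebraMap_eq, Finset.mul_sum, ← mul_assoc, sub_eq_zero]
    rw [Finset.sum_comm]
    refine Finset.sum_congr rfl fun k _ => ?_
    rw [← Finset.sum_mul, ← hee k, map_sum]
    simp only [map_mul]
  let σ : B →ₐ[A] MvPolynomial (Fin n) A := Ideal.Quotient.liftₐ J σ₀ hσ₀
  have : Algebra.FormallySmooth A B := by
    refine Algebra.FormallySmooth.of_split (Ideal.Quotient.mkₐ A J)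
      ((Ideal.Quotient.mkₐ A _).comp σ) ?_
    refine Ideal.Quotient.algHom_ext A (MvPolynomial.algHom_ext fun j => ?_)
    change Ideal.Quotient.mk J (σ₀ (X j)) = y j
    rw [hy j]
    simp [σ₀, y]
    rfl
  have : Algebra.FinitePresentation A B :=
    Algebra.FinitePresentation.quotient (Submodule.fg_span (Set.finite_range _))
  have : Algebra.Smooth A B := ⟨inferInstance, inferInstance⟩
  have : Algebra.Smooth R B := Algebra.Smooth.comp R A B
  let r : B →ₐ[A] A := Ideal.Quotient.liftₐ J (aeval fun _ => 0) fun z hz => by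
    suffices J ≤ RingHom.ker (aeval (fun _ : Fin n => (0 : A))) from this hz
    rw [Ideal.span_le]
    rintro _ ⟨j, rfl⟩
    simp [g]
  -- a derivation `B → Aⁿ` splitting the candidate basis at the section
  let ev : MvPolynomial (Fin n) A →ₐ[A] A := aeval fun _ => 0
  let δ : MvPolynomial (Fin n) A →ₗ[R] (Fin n → A) :=
    { toFun p := s (D R A (ev p)) + ∑ i, ev (pderiv i p) • e i
      map_add' p q := by
        simp only [map_add, add_smul, Finset.sum_add_distrib]; abel
      map_smul' c p := by
        simp only [RingHom.id_apply, smul_add, Finset.smul_sum]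
        rw [← IsScalarTower.algebraMap_smul A c p, map_smul, smul_eq_mul, Derivation.leibniz,
          Derivation.map_algebraMap, smul_zero, add_zero, map_smul, algebraMap_smul]
        congr 1
        refine Finset.sum_congr rfl fun i _ => ?_
        rw [Derivation.map_smul, map_smul, smul_assoc, algebraMap_smul] }
  have hδ : ∀ p q, δ (p * q) = ev p • δ q + ev q • δ p := fun p q => by
    simp only [δ, LinearMap.coe_mk, AddHom.coe_mk, map_mul, Derivation.leibniz, map_add, map_smul,
      smul_add, Finset.smul_sum, smul_smul, add_smul, Finset.sum_add_distrib, smul_eq_mul]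
    abel
  have hδJ : ∀ z ∈ J, δ z = 0 ∧ ev z = 0 := fun z hz => by
    induction hz using Submodule.span_induction with
    | zero => simp
    | add a b _ _ ha hb => simp [ha.1, ha.2, hb.1, hb.2]
    | smul a b _ hb => simp [hδ, hb.1, hb.2]
    | mem z hz =>
      obtain ⟨j, rfl⟩ := hz
      have h0 : ev (g j) = 0 := by simp [ev, g]
      refine ⟨?_, h0⟩
      change s (D R A (ev (g j))) + ∑ i, ev (pderiv i (g j)) • e i = 0
      rw [h0, map_zero, map_zero, zero_add]
      simp only [g, map_sub, map_sum, Derivation.leibniz, pderiv_C, add_zero,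
        pderiv_X, smul_eq_mul, sub_smul, Finset.sum_sub_distrib, sub_eq_zero]
      simp [ev, Pi.single_apply, apply_ite, ite_smul, hecomb, hπe]
  let : Algebra B A := r.toRingHom.toAlgebra
  have hr : ∀ p, algebraMap B A (Ideal.Quotient.mk J p) = ev p := fun p => rfl
  have : IsScalarTower R B A := IsScalarTower.of_algebraMap_eq (R := R) (S := B) (A := A) fun c => by
    rw [IsScalarTower.algebraMap_apply R A B]
    exact (r.commutes _).symm
  let δB : Derivation R B (Fin n → A) := Derivation.mk'
    ((J.restrictScalars R).liftQ δ fun z hz => (hδJ z hz).1) fun a b => by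
      obtain ⟨p, rfl⟩ := Ideal.Quotient.mk_surjective a
      obtain ⟨q, rfl⟩ := Ideal.Quotient.mk_surjective b
      simp only [← algebraMap_smul A (Ideal.Quotient.mk J p), ← algebraMap_smul A
        (Ideal.Quotient.mk J q), hr]
      exact hδ p q
  let u : Fin n → B := fun i => algebraMap A B (x i) + y i
  have hδu : ∀ i, δB (u i) = Pi.single i 1 := fun i => by
    change δ (C (x i) + X i) = _
    have h1 : s (D R A (x i)) = s (π (Pi.single i 1)) := by simp [π]
    simp [δ, ev, Pi.single_apply, apply_ite, ite_smul, h1, e]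
  -- lift the left inverse
  let red : (Fin n → B) →ₗ[B] (Fin n → A) :=
    LinearMap.pi fun i => (Algebra.linearMap B A).comp (LinearMap.proj i)
  have hred : Function.Surjective red := fun c =>
    ⟨fun i => algebraMap A B (c i), funext fun i => r.commutes (c i)⟩
  obtain ⟨Ψ, hΨ⟩ := Module.projective_lifting_property red δB.liftKaehlerDifferential hred
  let Φ : (Fin n → B) →ₗ[B] Ω[B⁄R] := Fintype.linearCombination B fun i => D R B (u i)
  let I : Ideal B := RingHom.ker (algebraMap B A)
  have hyI : ∀ i, y i ∈ I := fun i => by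
    rw [RingHom.mem_ker, hr]; simp [ev]
  -- modulo the zero section the candidate differentials generate
  have hgen : ⊤ ≤ LinearMap.range Φ ⊔ I • (⊤ : Submodule B Ω[B⁄R]) := by
    let S := LinearMap.range Φ ⊔ I • (⊤ : Submodule B Ω[B⁄R])
    let ι := KaehlerDifferential.map R R A B
    have hu : ∀ i, D R B (u i) ∈ S := fun i =>
      Submodule.mem_sup_left ⟨Pi.single i 1, by simp [Φ]⟩
    have hιπ : ∀ c, ι (π c) = ∑ i, algebraMap A B (c i) • D R B (algebraMap A B (x i)) :=
      fun c => by
        simp [π, ι, Fintype.linearCombination_apply]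
        exact Finset.sum_congr rfl fun i _ =>
          (algebraMap_smul (R := A) (M := Ω[B⁄R]) B (c i) _).symm
    have hY : ∀ j, D R B (y j) ∈ S := fun j => by
      have h1 : ∑ i, algebraMap A B (e j i) • D R B (algebraMap A B (x i)) = 0 := by
        rw [← hιπ, hπe, map_zero]
      have h2 : D R B (y j) = ∑ i, algebraMap A B (e j i) • D R B (u i) +
          ∑ i, y i • D R B (algebraMap A B (e j i)) := by
        conv_lhs => rw [hy j]
        have h3 : ∀ i, algebraMap A B (e j i) • D R B (u i) =
            algebraMap A B (e j i) • D R B (algebraMap A B (x i)) +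
              algebraMap A B (e j i) • D R B (y i) := fun i => by
          rw [show D R B (u i) = _ from map_add _ _ _]
          exact smul_add (algebraMap A B (e j i)) (D R B (algebraMap A B (x i))) _
        rw [Finset.sum_congr rfl fun i _ => h3 i]
        simp only [map_sum, Derivation.leibniz, Finset.sum_add_distrib, h1, zero_add]
      rw [h2]
      exact add_mem (Submodule.sum_mem _ fun i _ => Submodule.smul_mem _ _ (hu i))
        (Submodule.mem_sup_right (Submodule.sum_mem _ fun i _ =>
          Submodule.smul_mem_smul (hyI i) trivial))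
    have hX : ∀ i, D R B (algebraMap A B (x i)) ∈ S := fun i => by
      simpa [u] using sub_mem (hu i) (hY i)
    refine (KaehlerDifferential.span_range_derivation R B).ge.trans (Submodule.span_le.mpr ?_)
    rintro _ ⟨b, rfl⟩
    obtain ⟨p, rfl⟩ := Ideal.Quotient.mk_surjective b
    change _ ∈ S
    induction p using MvPolynomial.induction_on with
    | C a =>
      obtain ⟨c, hc⟩ := hπ (D R A a)
      have : D R B (algebraMap A B a) = ι (π c) := by rw [hc]; simp [ι]
      change D R B (algebraMap A B a) ∈ S
      rw [this, hιπ]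
      exact Submodule.sum_mem _ fun i _ => Submodule.smul_mem _ _ (hX i)
    | add p q hp hq => rw [map_add, map_add]; exact add_mem hp hq
    | mul_X p i hp =>
      rw [map_mul, Derivation.leibniz]
      exact add_mem (Submodule.smul_mem _ _ (hY i)) (Submodule.smul_mem _ _ hp)
  obtain ⟨g₀, hg₀, hg₀Ω⟩ : ∃ g₀ : B, g₀ - 1 ∈ I ∧ ∀ ω, g₀ • ω ∈ LinearMap.range Φ := by
    have hN : (⊤ : Submodule B (Ω[B⁄R] ⧸ LinearMap.range Φ)) ≤ I • ⊤ := by
      intro z _
      obtain ⟨w, rfl⟩ := Submodule.mkQ_surjective _ z
      have := Submodule.mem_map_of_mem (f := (LinearMap.range Φ).mkQ) (hgen (trivial : w ∈ ⊤))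
      rwa [Submodule.map_sup, Submodule.mkQ_map_self, bot_sup_eq, Submodule.map_smul'',
        Submodule.map_top, Submodule.range_mkQ] at this
    obtain ⟨g₀, h₁, h₂⟩ := Submodule.exists_sub_one_mem_and_smul_eq_zero_of_fg_of_le_smul I _
      Module.Finite.fg_top hN
    exact ⟨g₀, h₁, fun ω => (Submodule.Quotient.mk_eq_zero _).mp
      (by rw [Submodule.Quotient.mk_smul]; exact h₂ _ trivial)⟩
  let N : Matrix (Fin n) (Fin n) B := Matrix.of fun i j => Ψ (D R B (u j)) i
  have hN : (algebraMap B A).mapMatrix N = 1 := by
    ext i j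
    have := congrFun ((LinearMap.congr_fun hΨ (D R B (u j))).trans
      (δB.liftKaehlerDifferential_comp_D (u j))) i
    rw [hδu] at this
    simpa [red, N, Pi.single_apply, Matrix.one_apply] using this
  let d : B := g₀ * N.det
  have hd : algebraMap B A d = 1 := by
    have hg₀' : algebraMap B A g₀ = 1 := by
      rwa [RingHom.mem_ker, map_sub, map_one, sub_eq_zero] at hg₀
    rw [map_mul, hg₀', RingHom.map_det, hN, Matrix.det_one, one_mul]
  let Bd := Localization.Away d
  have : Algebra.FormallyEtale B Bd := .of_isLocalization (Submonoid.powers d)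
  have : Algebra.FinitePresentation B Bd := IsLocalization.Away.finitePresentation d
  have : Algebra.Smooth B Bd := ⟨inferInstance, inferInstance⟩
  have : Algebra.Smooth A Bd := Algebra.Smooth.comp A B Bd
  refine ⟨Bd, inferInstance, inferInstance, inferInstance, inferInstance, inferInstance,
    ⟨IsLocalization.liftAlgHom (M := Submonoid.powers d) (f := r) ?_⟩, ?_⟩
  · rintro ⟨_, k, rfl⟩
    change IsUnit (algebraMap B A (d ^ k))
    simp [map_pow, hd]
  · exact isStandardSmooth_away_of_differentials u Ψ g₀
      (fun ω => Fintype.range_linearCombination B (fun i => D R B (u i)) ▸ hg₀Ω ω) d rfl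

end Groth.Agent.Smoothing
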