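import Groth.Prelude.Def_Smoothing
import Mathlib.RingTheory.Smooth.Local
import Mathlib.RingTheory.Kaehler.Polynomial
import Mathlib.RingTheory.Etale.Kaehler
import Mathlib.RingTheory.Localization.Module
import Mathlib.RingTheory.Localization.Algebra
import Mathlib.LinearAlgebra.Matrix.Rank
import Mathlib.LinearAlgebra.Matrix.NonsingularInverse
import Mathlib.RingTheory.LocalRing.Module

set_option autoImplicit false

open MvPolynomial KaehlerDifferential TensorProduct

universe u

namespace Groth.Agent.Smoothing

/-- A matrix with independent rows over a field has a nonzero maximal minor. -/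
lemma exists_cols_det_ne_zero {K : Type u} [Field K] {c n : ℕ} (M : Matrix (Fin c) (Fin n) K)
    (h : LinearIndependent K M.row) :
    ∃ cols : Fin c ↪ Fin n, (M.submatrix id cols).det ≠ 0 := by
  classical
  obtain ⟨κ, s, hs, hspan, hli⟩ := exists_linearIndependent' K M.col
  have : Finite κ := Finite.of_injective s hs
  let := Fintype.ofFinite κ
  have hc : Fintype.card κ = Fintype.card (Fin c) := by
    rw [linearIndependent_iff_card_eq_finrank_span.mp hli, Set.finrank, hspan,
      ← Matrix.rank_eq_finrank_span_cols, h.rank_matrix]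
  let e := (Fintype.equivFinOfCardEq (hc.trans (Fintype.card_fin c))).symm
  refine ⟨⟨s ∘ e, hs.comp e.injective⟩, fun hdet => ?_⟩
  have : LinearIndependent K (M.submatrix id (s ∘ e)).col := hli.comp _ e.injective
  rw [Matrix.linearIndependent_cols_iff_isUnit, Matrix.isUnit_iff_isUnit_det] at this
  exact this.ne_zero hdet

variable {R A : Type u} [CommRing R] [CommRing A] [Algebra R A] {n m : ℕ}

/-- Jacobian criterion at a smooth point of a presented algebra: some of the relations have a
minor outside the prime and generate all relations near the prime. -/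
theorem exists_minor_of_isSmoothAt (f : Fin m → MvPolynomial (Fin n) R)
    (φ : MvPolynomial (Fin n) R →ₐ[R] A) (hφ : Function.Surjective φ)
    (hker : RingHom.ker φ.toRingHom = Ideal.span (Set.range f)) (q : Ideal A) [q.IsPrime]
    [Algebra.IsSmoothAt R q] :
    ∃ (c : ℕ) (rows : Fin c ↪ Fin m) (cols : Fin c ↪ Fin n) (t : MvPolynomial (Fin n) R),
      φ t ∉ q ∧ φ (_root_.Smoothing.jacobianMinor f rows cols) ∉ q ∧
      ∀ l, t * f l ∈ Ideal.span (Set.range (f ∘ rows)) := by
  classical
  let P := MvPolynomial (Fin n) R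
  let 𝔮 : Ideal P := q.comap φ.toRingHom
  let Q := Localization.AtPrime 𝔮
  let L := Localization.AtPrime q
  have hM : Submonoid.map φ.toRingHom 𝔮.primeCompl = q.primeCompl := by
    ext y
    refine ⟨?_, fun hy => ?_⟩
    · rintro ⟨x, hx, rfl⟩; exact hx
    · obtain ⟨x, rfl⟩ := hφ y; exact ⟨x, hy, rfl⟩
  let g : Q →+* L := IsLocalization.map L φ.toRingHom (hM.symm ▸ 𝔮.primeCompl.le_comap_map)
  let : Algebra Q L := g.toAlgebra
  have : IsScalarTower R Q L := .of_algebraMap_eq fun r => by
    rw [RingHom.algebraMap_toAlgebra, IsScalarTower.algebraMap_apply R P Q,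
      IsLocalization.map_eq, IsScalarTower.algebraMap_apply R A L]
    exact congrArg _ (φ.commutes r).symm
  have hg : Function.Surjective (algebraMap Q L) := by
    intro z
    obtain ⟨y, s, rfl⟩ := IsLocalization.exists_mk'_eq q.primeCompl z
    obtain ⟨x, rfl⟩ := hφ y
    obtain ⟨t, ht⟩ := hφ s.1
    refine ⟨IsLocalization.mk' Q x (⟨t, fun h => s.2 (ht ▸ h)⟩ : 𝔮.primeCompl), ?_⟩
    rw [RingHom.algebraMap_toAlgebra, IsLocalization.map_mk']
    congr 1
    exact Subtype.ext ht
  let fQ (l : Fin m) : Q := algebraMap P Q (f l)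
  have hkerg : RingHom.ker (algebraMap Q L) = Ideal.span (Set.range fQ) := by
    rw [RingHom.algebraMap_toAlgebra]
    refine (IsLocalization.ker_map L φ.toRingHom hM).trans ?_
    rw [hker, Ideal.map_span, ← Set.range_comp]; rfl
  let K := IsLocalRing.ResidueField Q
  have hle : RingHom.ker (algebraMap Q L) ≤ IsLocalRing.maximalIdeal Q :=
    IsLocalRing.le_maximalIdeal (RingHom.ker_ne_top _)
  let θ : L →+* K := (algebraMap Q L).liftOfSurjective hg ⟨IsLocalRing.residue Q, by
    rw [IsLocalRing.ker_residue]; exact hle⟩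
  let : Algebra L K := θ.toAlgebra
  have hθ : ∀ x, θ (algebraMap Q L x) = IsLocalRing.residue Q x := fun x =>
    RingHom.liftOfSurjective_comp_apply _ _ _ x
  have : IsScalarTower Q L K := .of_algebraMap_eq fun x => (hθ x).symm
  have hmax : IsLocalRing.maximalIdeal L ≤ RingHom.ker (algebraMap L K) := fun y hy => by
    obtain ⟨x, rfl⟩ := hg y
    rw [RingHom.mem_ker, RingHom.algebraMap_toAlgebra, hθ, IsLocalRing.residue_eq_zero_iff]
    exact fun hx => hy (hx.map _)
  let b := (mvPolynomialBasis R (Fin n)).ofIsLocalizedModule Q 𝔮.primeCompl (map R R P Q)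
  have : Module.Free Q Ω[Q⁄R] := Module.Free.of_basis b
  have : Module.Finite Q Ω[Q⁄R] := Module.Finite.of_basis b
  have : Algebra.FormallyEtale P Q := .of_isLocalization 𝔮.primeCompl
  have : Algebra.FormallySmooth R Q := .comp R P Q
  have hfg : (RingHom.ker (algebraMap Q L)).FG := hkerg ▸ Submodule.fg_span (Set.finite_range _)
  have hinj := (Algebra.FormallySmooth.iff_injective_cotangentComplexBaseChange Q K hg hfg hmax).mp
    ‹_›
  let bK := b.baseChange K
  let grad (l : Fin m) : Fin n → K := fun i => IsLocalRing.residue Q (algebraMap P Q (pderiv i (f l)))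
  let e (l : Fin m) : RingHom.ker (algebraMap Q L) :=
    ⟨fQ l, hkerg ▸ Ideal.subset_span ⟨l, rfl⟩⟩
  let Φ : K ⊗[Q] RingHom.ker (algebraMap Q L) →ₗ[K] Fin n → K :=
    bK.equivFun.toLinearMap ∘ₗ cotangentComplexBaseChange R L Q K
  have hΦ : Function.Injective Φ := bK.equivFun.injective.comp hinj
  have hΦe (l : Fin m) : Φ (1 ⊗ₜ e l) = grad l := by
    funext i
    simp only [Φ, LinearMap.comp_apply, LinearEquiv.coe_coe, Module.Basis.equivFun_apply,
      cotangentComplexBaseChange_tmul, kerToTensor_apply, one_smul, bK, e, fQ]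
    rw [Module.Basis.baseChange_repr_tmul, ← map_D R R P Q,
      Module.Basis.ofIsLocalizedModule_repr_apply, mvPolynomialBasis_repr_apply]
    simp [grad, Algebra.smul_def]; rfl
  obtain ⟨κ, s, hs, hspan, hli⟩ := exists_linearIndependent' K grad
  have : Finite κ := Finite.of_injective s hs
  obtain ⟨c, ⟨ec⟩⟩ := Finite.exists_equiv_fin κ
  let rows : Fin c ↪ Fin m := ⟨s ∘ ec.symm, hs.comp ec.symm.injective⟩
  have hrows : Set.range (grad ∘ rows) = Set.range (grad ∘ s) := by
    rw [show grad ∘ rows = (grad ∘ s) ∘ ec.symm from rfl, ec.symm.surjective.range_comp]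
  obtain ⟨cols, hcols⟩ := exists_cols_det_ne_zero (Matrix.of (grad ∘ rows))
    (hli.comp _ ec.symm.injective)
  have : Module.Finite Q (RingHom.ker (algebraMap Q L)) := .of_fg hfg
  have htop : Submodule.span Q (Set.range (e ∘ rows)) = ⊤ := by
    refine (IsLocalRing.map_tensorProduct_mk_eq_top (R := Q)
      (M := RingHom.ker (algebraMap Q L))).mp ?_
    rw [Submodule.map_span,
      ← Submodule.restrictScalars_span Q K IsLocalRing.residue_surjective,
      Submodule.restrictScalars_eq_top_iff]
    refine Submodule.eq_top_iff'.mpr fun z => ?_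
    have hz : Φ z ∈ Submodule.span K (Set.range grad) := by
      induction z with
      | zero => simp
      | add x y hx hy => rw [map_add]; exact Submodule.add_mem _ hx hy
      | tmul k w =>
        rw [show k ⊗ₜ[Q] w = k • ((1 : K) ⊗ₜ[Q] w) by simp [TensorProduct.smul_tmul'],
          map_smul]
        refine Submodule.smul_mem _ _ ?_
        obtain ⟨w, hw⟩ := w
        have hw' : w ∈ Submodule.span Q (Set.range fQ) := (SetLike.ext_iff.mp hkerg w).mp hw
        induction hw' using Submodule.span_induction with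
        | zero => simp [show (⟨0, hw⟩ : RingHom.ker (algebraMap Q L)) = 0 from rfl]
        | mem x hx =>
          obtain ⟨l, rfl⟩ := hx
          exact hΦe l ▸ Submodule.subset_span ⟨l, rfl⟩
        | add x y hx hy ihx ihy =>
          have hx' : x ∈ RingHom.ker (algebraMap Q L) := (SetLike.ext_iff.mp hkerg x).mpr hx
          have hy' : y ∈ RingHom.ker (algebraMap Q L) := (SetLike.ext_iff.mp hkerg y).mpr hy
          rw [show (⟨x + y, hw⟩ : RingHom.ker (algebraMap Q L)) = ⟨x, hx'⟩ + ⟨y, hy'⟩ from rfl,
            TensorProduct.tmul_add, map_add]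
          exact Submodule.add_mem _ (ihx hx') (ihy hy')
        | smul r x hx ih =>
          have hx' : x ∈ RingHom.ker (algebraMap Q L) := (SetLike.ext_iff.mp hkerg x).mpr hx
          rw [show (⟨r • x, hw⟩ : RingHom.ker (algebraMap Q L)) = r • ⟨x, hx'⟩ from rfl,
            TensorProduct.tmul_smul, ← algebraMap_smul K r, map_smul]
          exact Submodule.smul_mem _ _ (ih hx')
    have hsub : Set.range (grad ∘ rows) =
        Φ '' ((TensorProduct.mk Q K _ 1) '' Set.range (e ∘ rows)) := by
      rw [← Set.range_comp, ← Set.range_comp]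
      exact congrArg Set.range (funext fun k => (hΦe (rows k)).symm)
    rw [← hspan, ← hrows, hsub, ← Submodule.map_span] at hz
    obtain ⟨z', hz', hzz⟩ := hz
    rwa [← hΦ hzz]
  have hgen : ∀ l, ∃ t ∈ 𝔮.primeCompl, t * f l ∈ Ideal.span (Set.range (f ∘ rows)) := by
    intro l
    rw [← IsLocalization.algebraMap_mem_map_algebraMap_iff 𝔮.primeCompl Q, Ideal.map_span,
      ← Set.range_comp]
    have h : e l ∈ Submodule.span Q (Set.range (e ∘ rows)) := htop ▸ trivial
    have h' := Submodule.mem_map_of_mem (f := Submodule.subtype _) h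
    rw [Submodule.map_span, ← Set.range_comp] at h'
    exact h'
  choose t ht htf using hgen
  refine ⟨c, rows, cols, ∏ l, t l, ?_, ?_, fun l => ?_⟩
  · exact (Submonoid.prod_mem _ (fun l _ => ht l) : ∏ l, t l ∈ 𝔮.primeCompl)
  · intro hmem
    refine hcols ?_
    have : (Matrix.of (grad ∘ rows)).submatrix id cols = ((IsLocalRing.residue Q).comp
        (algebraMap P Q)).mapMatrix (Matrix.of fun j k => pderiv (cols k) (f (rows j))) := rfl
    rw [this, ← RingHom.map_det, RingHom.comp_apply, IsLocalRing.residue_eq_zero_iff,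
      IsLocalization.AtPrime.to_map_mem_maximal_iff Q 𝔮]
    exact hmem
  · rw [← Finset.prod_erase_mul _ _ (Finset.mem_univ l), mul_assoc]
    exact Ideal.mul_mem_left _ _ (htf l)

end Groth.Agent.Smoothing
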