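import Groth.Agent.Smoothing.Elementary
import Groth.Agent.Smoothing.Minor
import Mathlib.RingTheory.Smooth.StandardSmoothCotangent
import Mathlib.RingTheory.Smooth.Locus
import Mathlib.Logic.Equiv.Fintype

set_option autoImplicit false

open MvPolynomial

universe u

namespace Groth.Agent.Smoothing

variable {R A : Type u} [CommRing R] [CommRing A] [Algebra R A] {n m : ℕ}

lemma exists_perm_castLE {N c : ℕ} (hc : c ≤ N) (r : Fin c ↪ Fin N) :
    ∃ σ : Equiv.Perm (Fin N), ∀ i, σ (Fin.castLE hc i) = r i := by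
  classical
  let e : {x // x ∈ Set.range (Fin.castLE hc)} ≃ {x // x ∈ Set.range r} :=
    (Equiv.ofInjective _ (Fin.castLE_injective hc)).symm.trans (Equiv.ofInjective r r.injective)
  refine ⟨e.extendSubtype, fun i => ?_⟩
  rw [e.extendSubtype_apply_of_mem _ ⟨i, rfl⟩]
  simp only [e, Equiv.trans_apply, Equiv.ofInjective_apply]
  congr 1
  rw [Equiv.symm_apply_eq]
  rfl

/-- Elements of the shape appearing at smooth points. -/
lemma exists_tail_killer (f : Fin m → MvPolynomial (Fin n) R)
    (φ : MvPolynomial (Fin n) R →ₐ[R] A) (hφ : Function.Surjective φ)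
    (hker : RingHom.ker φ.toRingHom = Ideal.span (Set.range f)) (q : Ideal A) [q.IsPrime]
    [Algebra.IsSmoothAt R q] :
    ∃ a : A, a ∉ q ∧ ∃ (c : ℕ) (rows : Fin c ↪ Fin m) (cols : Fin c ↪ Fin n) (a' : A),
      a = a' * φ (_root_.Smoothing.jacobianMinor f rows cols) ∧
      ∀ a₁ : MvPolynomial (Fin n) R, φ a₁ = a → ∀ ℓ : Fin m,
        a₁ * f ℓ ∈ Ideal.span (Set.range (f ∘ rows)) ⊔ Ideal.span (Set.range f) ^ 2 := by
  obtain ⟨c, rows, cols, t, ht, hΔ, h⟩ := exists_minor_of_isSmoothAt f φ hφ hker q
  let Δ := _root_.Smoothing.jacobianMinor f rows cols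
  refine ⟨φ t * φ Δ, Ideal.IsPrime.mul_notMem ‹_› ht hΔ, c, rows, cols, φ t, rfl,
    fun a₁ ha₁ l => ?_⟩
  rw [show a₁ * f l = Δ * (t * f l) + (a₁ - t * Δ) * f l by ring]
  refine add_mem (Ideal.mem_sup_left (Ideal.mul_mem_left _ _ (h l))) (Ideal.mem_sup_right ?_)
  rw [pow_two]
  refine Ideal.mul_mem_mul ?_ (Ideal.subset_span ⟨l, rfl⟩)
  rw [← hker, RingHom.mem_ker]
  change φ (a₁ - t * Δ) = 0
  rw [map_sub, map_mul, ha₁, sub_self]

lemma exists_elementary_notMem [Algebra.FinitePresentation R A] (q : Ideal A) [q.IsPrime]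
    [Algebra.IsSmoothAt R q] :
    ∃ a : A, a ∉ q ∧ _root_.Smoothing.IsElementaryStandard R A a := by
  obtain ⟨n, φ, hφ, hfg⟩ := ‹Algebra.FinitePresentation R A›.out
  obtain ⟨m, f, hker⟩ := Submodule.fg_iff_exists_fin_generating_family.mp hfg
  obtain ⟨a, haq, c, rows, cols, a', ha, hkill⟩ := exists_tail_killer f φ hφ hker.symm q
  have hcn : c ≤ n := by simpa using Fintype.card_le_of_embedding cols
  have hcm : c ≤ m := by simpa using Fintype.card_le_of_embedding rows
  obtain ⟨σ, hσ⟩ := exists_perm_castLE hcm rows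
  obtain ⟨τ, hτ⟩ := exists_perm_castLE hcn cols
  let T := renameEquiv R τ
  let P : _root_.Smoothing.MarkedPresentation R A :=
    { n := n, m := m, c := c, hcn := hcn, hcm := hcm
      rel := fun j => T.symm (f (σ j))
      hom := φ.comp T.toAlgHom
      surj := hφ.comp T.surjective
      ker_eq := by
        ext x
        have : φ (T x) = 0 ↔ T x ∈ Ideal.span (Set.range f) := by
          rw [show Ideal.span (Set.range f) = _ from hker]; rfl
        refine this.trans ?_
        rw [show (fun j => T.symm (f (σ j))) = T.symm ∘ f ∘ σ from rfl, Set.range_comp,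
          σ.surjective.range_comp,
          show ⇑T.symm '' Set.range f = T.symm.toRingEquiv.toRingHom '' Set.range f from rfl,
          ← Ideal.map_span]
        constructor
        · intro hx
          have := Ideal.mem_map_of_mem T.symm.toRingEquiv.toRingHom hx
          simpa using this
        · intro hx
          obtain ⟨y, hy, hyx⟩ :=
            (Ideal.mem_map_iff_of_surjective _ T.symm.toRingEquiv.surjective).mp hx
          rw [← hyx]
          simpa using hy }
  refine ⟨a, haq, P, ⟨a', ?_⟩, (killsTail_iff P a).mpr fun x hx j => ?_⟩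
  · rw [ha]
    congr 1
    change φ _ = φ (T _)
    congr 1
    rw [_root_.Smoothing.jacobianMinor, _root_.Smoothing.jacobianMinor, AlgEquiv.map_det]
    congr 1
    refine Matrix.ext fun i k => ?_
    change pderiv (cols k) (f (rows i)) =
      rename τ (pderiv (Fin.castLE hcn k) (rename τ.symm (f (σ (Fin.castLE hcm i)))))
    rw [← pderiv_rename τ.injective, hτ, hσ, rename_rename]
    simp [Function.comp_def]
    exact congrArg _ (rename_id_apply _).symm
  · have h := Ideal.mem_map_of_mem T.symm.toRingEquiv.toRingHom (hkill (T x) hx (σ j))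
    rw [Ideal.map_sup, Ideal.map_pow, Ideal.map_span, Ideal.map_span, map_mul] at h
    have e1 : T.symm.toRingEquiv.toRingHom '' Set.range (f ∘ rows) =
        Set.range (P.rel ∘ Fin.castLE P.hcm) := by
      rw [← Set.range_comp]
      exact congrArg Set.range (funext fun k => by simp [P, hσ])
    have e2 : T.symm.toRingEquiv.toRingHom '' Set.range f = Set.range P.rel := by
      rw [show P.rel = T.symm ∘ f ∘ σ from rfl, Set.range_comp T.symm, σ.surjective.range_comp]
      rfl
    rw [e1, e2] at h
    simpa [P] using h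

lemma mem_singularIdeal_of_isStrictlyStandard [Algebra.FinitePresentation R A] {a : A}
    (ha : _root_.Smoothing.IsStrictlyStandard R A a) :
    a ∈ _root_.Smoothing.singularIdeal R A := by
  classical
  obtain ⟨P, hspan, hkill⟩ := ha
  rw [_root_.Smoothing.singularIdeal, PrimeSpectrum.mem_vanishingIdeal]
  intro p hp
  by_contra hap
  apply hp
  have : ∃ cols : Fin P.c → Fin P.n,
      P.hom (_root_.Smoothing.jacobianMinor P.rel (Fin.castLE P.hcm) cols) ∉ p.asIdeal := by
    by_contra! h
    exact hap ((Ideal.span_le.mpr (by rintro _ ⟨cols, rfl⟩; exact h cols)) hspan)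
  obtain ⟨cols, hcols⟩ := this
  have hinj : Function.Injective cols := fun i k hik => by
    by_contra hne
    refine hcols ?_
    rw [_root_.Smoothing.jacobianMinor, Matrix.det_zero_of_column_eq hne (fun l => by simp [hik]),
      map_zero]
    exact zero_mem _
  let Δ := _root_.Smoothing.jacobianMinor P.rel (Fin.castLE P.hcm) cols
  have := isStandardSmooth_away P.rel P.hom P.surj P.ker_eq (Fin.castLE P.hcm) cols hinj
    (a * P.hom Δ) a rfl fun t ht j => by
      obtain ⟨t₀, ht₀⟩ := P.surj a
      rw [show t * P.rel j = Δ * (t₀ * P.rel j) + (t - t₀ * Δ) * P.rel j by ring]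
      refine add_mem (Ideal.mul_mem_left _ _ ((killsTail_iff P a).mp hkill t₀ ht₀ j))
        (Ideal.mem_sup_right ?_)
      rw [pow_two]
      refine Ideal.mul_mem_mul ?_ (Ideal.subset_span ⟨j, rfl⟩)
      rw [← P.ker_eq, RingHom.mem_ker]
      change P.hom (t - t₀ * Δ) = 0
      rw [map_sub, map_mul, ht, ht₀, sub_self]
  have hsm : Algebra.Smooth R (Localization.Away (a * P.hom Δ)) := inferInstance
  exact (Algebra.basicOpen_subset_smoothLocus_iff_smooth.mpr hsm)
    (show a * P.hom Δ ∉ p.asIdeal from p.2.mul_notMem hap hcols)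

end Groth.Agent.Smoothing
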