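import Groth.Prelude.Def_Smoothing
import Mathlib.RingTheory.Smooth.StandardSmooth
import Mathlib.RingTheory.Extension.Presentation.Submersive
import Mathlib.LinearAlgebra.Matrix.Adjugate
import Mathlib.RingTheory.Finiteness.Ideal

set_option autoImplicit false

open MvPolynomial

universe u

namespace Groth.Agent.Smoothing

/-- Determinant trick: if `t · I ⊆ J + I²` with `I` generated by `m` elements, then an element which
is congruent to `t ^ (m + 1)` modulo `I` multiplies `I` into `J`. -/
lemma exists_mul_mem_of_mul_mem_sup_sq {P : Type u} [CommRing P] {m : ℕ} (f : Fin m → P)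
    (J : Ideal P) (t : P)
    (ht : ∀ j, t * f j ∈ J ⊔ Ideal.span (Set.range f) ^ 2) :
    ∃ h : P, h - t ^ (m + 1) ∈ Ideal.span (Set.range f) ∧
      ∀ x ∈ Ideal.span (Set.range f), h * x ∈ J := by
  classical
  set I := Ideal.span (Set.range f) with hI
  have key : ∀ j, ∃ c : Fin m → P, (∀ k, c k ∈ I) ∧ t * f j - ∑ k, c k * f k ∈ J := by
    intro j
    obtain ⟨u, hu, v, hv, huv⟩ := Submodule.mem_sup.mp (ht j)
    rw [pow_two, ← smul_eq_mul] at hv
    conv at hv => arg 1; arg 2; rw [hI]
    obtain ⟨c, hc, rfl⟩ := (Submodule.mem_ideal_smul_span_iff_exists_sum _ f v).mp hv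
    refine ⟨c, hc, ?_⟩
    rw [← huv, Finsupp.sum_fintype _ _ (fun i => by simp)]
    simpa using hu
  choose c hc hcJ using key
  let N : Matrix (Fin m) (Fin m) P := t • (1 : Matrix (Fin m) (Fin m) P) - Matrix.of c
  have hN : ∀ j, N.mulVec f j ∈ J := fun j => by
    have : N.mulVec f j = t * f j - ∑ k, c j k * f k := by
      simp [N, Matrix.mulVec, dotProduct, sub_mul, Finset.sum_sub_distrib, Matrix.one_apply]
    rw [this]; exact hcJ j
  refine ⟨N.det * t, ?_, fun x hx => ?_⟩
  · rw [← Ideal.Quotient.eq_zero_iff_mem, map_sub, map_mul, map_pow, RingHom.map_det,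
      show (Ideal.Quotient.mk I).mapMatrix N = Ideal.Quotient.mk I t • 1 from ?_]
    · simp [pow_succ]
    · ext i k
      by_cases hik : i = k <;>
        simp [N, hik, Ideal.Quotient.eq_zero_iff_mem.mpr (hc _ _)]
  · rw [hI] at hx
    induction hx using Submodule.span_induction with
    | mem x hx =>
      obtain ⟨j, rfl⟩ := hx
      have : N.det * f j ∈ J := by
        have h := congrFun (congrArg (fun M => Matrix.mulVec M f) (Matrix.adjugate_mul N)) j
        simp only [← Matrix.mulVec_mulVec, Matrix.smul_mulVec, Matrix.one_mulVec, Pi.smul_apply,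
          smul_eq_mul] at h
        rw [← h]
        change ∑ k, N.adjugate j k * N.mulVec f k ∈ J
        exact Ideal.sum_mem _ fun k _ => J.mul_mem_left _ (hN k)
      rw [mul_right_comm]
      exact J.mul_mem_right _ this
    | zero => simp
    | add x y _ _ hx hy => rw [mul_add]; exact J.add_mem hx hy
    | smul r x _ hx => rw [smul_eq_mul, mul_left_comm]; exact J.mul_mem_left _ hx

variable {R A : Type u} [CommRing R] [CommRing A] [Algebra R A]

/-- Leading relations and a unit leading minor give standard smoothness after inverting `a`. -/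
theorem isStandardSmooth_away {n m c : ℕ} (f : Fin m → MvPolynomial (Fin n) R)
    (φ : MvPolynomial (Fin n) R →ₐ[R] A) (hφ : Function.Surjective φ)
    (hker : RingHom.ker φ.toRingHom = Ideal.span (Set.range f))
    (rows : Fin c → Fin m) (cols : Fin c → Fin n) (hcols : Function.Injective cols) (a a' : A)
    (ha : a = a' * φ (_root_.Smoothing.jacobianMinor f rows cols))
    (hkill : ∀ t, φ t = a → ∀ j,
      t * f j ∈ Ideal.span (Set.range (f ∘ rows)) ⊔ Ideal.span (Set.range f) ^ 2) :
    Algebra.IsStandardSmooth R (Localization.Away a) := by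
  obtain ⟨t, ht⟩ := hφ a
  obtain ⟨h, hh, hhI⟩ := exists_mul_mem_of_mul_mem_sup_sq f _ t (hkill t ht)
  rw [← hker] at hh hhI
  let v := f ∘ rows
  let J : Ideal (MvPolynomial (Fin n) R) := Ideal.span (Set.range v)
  have hJ : J ≤ RingHom.ker φ.toRingHom := by
    rw [hker]; exact Ideal.span_mono (Set.range_comp_subset_range rows f)
  have hφh : φ h = a ^ (m + 1) := by
    rw [← sub_eq_zero, ← ht, ← map_pow, ← map_sub]; exact hh
  let B := MvPolynomial (Fin n) R ⧸ J
  let π : B →ₐ[R] A := Ideal.Quotient.liftₐ J φ fun x hx => hJ hx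
  let L := Localization.Away a
  let ψ : B →+* L := (algebraMap A L).comp π.toRingHom
  let : Algebra B L := ψ.toAlgebra
  have : IsScalarTower R B L := IsScalarTower.of_algebraMap_eq (R := R) (S := B) (A := L) fun r => by
    change algebraMap R L r = algebraMap A L (π (algebraMap R B r))
    rw [π.commutes, ← IsScalarTower.algebraMap_apply]
  have hψ (p : MvPolynomial (Fin n) R) :
      algebraMap B L (Ideal.Quotient.mk J p) = algebraMap A L (φ p) := rfl
  have hu : IsUnit (algebraMap A L a) := IsLocalization.Away.algebraMap_isUnit a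
  have : IsLocalization.Away (Ideal.Quotient.mk J h : B) L := by
    refine IsLocalization.Away.mk _ ?_ ?_ ?_
    · rw [hψ, hφh, map_pow]; exact hu.pow _
    · intro z
      obtain ⟨k, y, hy⟩ := IsLocalization.Away.surj a z
      obtain ⟨p, hp⟩ := hφ (a ^ (m * k) * y)
      refine ⟨k, Ideal.Quotient.mk J p, ?_⟩
      rw [hψ, hψ, hφh, hp, map_mul, map_pow, map_pow, ← hy, ← pow_mul]
      ring
    · intro x y hxy
      obtain ⟨p, rfl⟩ := Ideal.Quotient.mk_surjective x
      obtain ⟨q, rfl⟩ := Ideal.Quotient.mk_surjective y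
      rw [hψ, hψ] at hxy
      obtain ⟨k, hk⟩ := IsLocalization.Away.exists_of_eq a hxy
      refine ⟨k + 1, ?_⟩
      rw [← map_pow, ← map_mul, ← map_mul, Ideal.Quotient.eq, ← mul_sub, pow_succ', mul_assoc]
      refine hhI _ ?_
      change φ (h ^ k * (p - q)) = 0
      rw [map_mul, map_pow, hφh, map_sub, ← pow_mul, show (m + 1) * k = k * m + k by ring, pow_add,
        mul_assoc, mul_sub (a ^ k), hk, sub_self, mul_zero]
  let P₀ : Algebra.PreSubmersivePresentation R B (Fin n) (Fin c) :=
    { Algebra.Presentation.naive (v := v) with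
      map := cols
      map_inj := hcols }
  have hP₀ : P₀.jacobian =
      Ideal.Quotient.mk J (_root_.Smoothing.jacobianMinor f rows cols) := by
    rw [P₀.jacobian_eq_jacobiMatrix_det, _root_.Smoothing.jacobianMinor, ← Matrix.det_transpose]
    have : P₀.jacobiMatrix.transpose =
        Matrix.of fun j k : Fin c => pderiv (cols k) (f (rows j)) := by
      ext j k; simp [Algebra.PreSubmersivePresentation.jacobiMatrix_apply, P₀, v]
    rw [this]
    rfl
  let P := (Algebra.PreSubmersivePresentation.localizationAway L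
    (Ideal.Quotient.mk J h : B)).comp P₀
  have hP : IsUnit P.jacobian := by
    rw [Algebra.PreSubmersivePresentation.comp_jacobian_eq_jacobian_smul_jacobian,
      Algebra.PreSubmersivePresentation.localizationAway_jacobian, hP₀, Algebra.smul_def]
    refine IsUnit.mul ?_ (IsLocalization.Away.algebraMap_isUnit _)
    rw [hψ]
    refine isUnit_of_mul_isUnit_right (x := algebraMap A L a') ?_
    rw [← map_mul, ← ha]
    exact hu
  exact (Algebra.SubmersivePresentation.mk P hP).isStandardSmooth

end Groth.Agent.Smoothing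

namespace Groth.Agent.Smoothing

variable {R A : Type u} [CommRing R] [CommRing A] [Algebra R A]

lemma image_lt_eq_range (P : _root_.Smoothing.MarkedPresentation R A) :
    P.rel '' {j : Fin P.m | (j : ℕ) < P.c} = Set.range (P.rel ∘ Fin.castLE P.hcm) := by
  rw [Set.range_comp]
  congr 1
  ext j
  exact ⟨fun hj => ⟨⟨j, hj⟩, rfl⟩, by rintro ⟨k, rfl⟩; exact k.2⟩

/-- The tail condition in the form valid for every relation. -/
lemma killsTail_iff (P : _root_.Smoothing.MarkedPresentation R A) (a : A) :
    _root_.Smoothing.KillsTail P a ↔ ∀ t, P.hom t = a → ∀ j,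
      t * P.rel j ∈ Ideal.span (Set.range (P.rel ∘ Fin.castLE P.hcm)) ⊔
        Ideal.span (Set.range P.rel) ^ 2 := by
  rw [_root_.Smoothing.KillsTail, ← image_lt_eq_range P]
  refine ⟨fun h t ht j => ?_, fun h t ht j _ => h t ht j⟩
  by_cases hj : (j : ℕ) < P.c
  · exact Ideal.mem_sup_left (Ideal.mul_mem_left _ _ (Ideal.subset_span ⟨j, hj, rfl⟩))
  · exact h t ht j (not_lt.mp hj)

end Groth.Agent.Smoothing
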