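import Groth.Agent.Smoothing.Elementary
import Mathlib.RingTheory.TensorProduct.MvPolynomial
import Mathlib.LinearAlgebra.TensorProduct.RightExactness

set_option autoImplicit false

open MvPolynomial TensorProduct

universe u

namespace Groth.Agent.Smoothing

variable {R A : Type u} [CommRing R] [CommRing A] [Algebra R A]
  (R' : Type u) [CommRing R'] [Algebra R R']

/-- Base change of the structure map of a presentation. -/
noncomputable def baseChangeHom {n : ℕ} (φ : MvPolynomial (Fin n) R →ₐ[R] A) :
    MvPolynomial (Fin n) R' →ₐ[R'] R' ⊗[R] A :=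
  (Algebra.TensorProduct.map (AlgHom.id R' R') φ).comp
    (algebraTensorAlgEquiv (σ := Fin n) R R').symm.toAlgHom

lemma baseChangeHom_map {n : ℕ} (φ : MvPolynomial (Fin n) R →ₐ[R] A)
    (p : MvPolynomial (Fin n) R) :
    baseChangeHom R' φ (MvPolynomial.map (algebraMap R R') p) = (1 : R') ⊗ₜ[R] φ p := by
  simp [baseChangeHom]

lemma baseChangeHom_surjective {n : ℕ} (φ : MvPolynomial (Fin n) R →ₐ[R] A)
    (hφ : Function.Surjective φ) : Function.Surjective (baseChangeHom R' φ) := by
  intro z
  induction z with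
  | zero => exact ⟨0, map_zero _⟩
  | add x y hx hy =>
    obtain ⟨a, rfl⟩ := hx
    obtain ⟨b, rfl⟩ := hy
    exact ⟨a + b, map_add _ _ _⟩
  | tmul r a =>
    obtain ⟨p, rfl⟩ := hφ a
    refine ⟨r • MvPolynomial.map (algebraMap R R') p, ?_⟩
    rw [map_smul, baseChangeHom_map, TensorProduct.smul_tmul', smul_eq_mul, mul_one]

lemma ker_baseChangeHom {n m : ℕ} (φ : MvPolynomial (Fin n) R →ₐ[R] A)
    (hφ : Function.Surjective φ) (f : Fin m → MvPolynomial (Fin n) R)
    (hker : RingHom.ker φ.toRingHom = Ideal.span (Set.range f)) :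
    RingHom.ker (baseChangeHom R' φ).toRingHom =
      Ideal.span (Set.range fun j => MvPolynomial.map (algebraMap R R') (f j)) := by
  let e := algebraTensorAlgEquiv (σ := Fin n) R R'
  have h1 := Algebra.TensorProduct.lTensor_ker (R := R) (A := R') φ hφ
  have h2 : RingHom.ker φ = Ideal.span (Set.range f) := hker
  rw [h2, Ideal.map_span, ← Set.range_comp] at h1
  ext x
  have hx : baseChangeHom R' φ x = 0 ↔
      e.symm x ∈ Ideal.span (Set.range fun j => (1 : R') ⊗ₜ[R] f j) := by
    rw [show (fun j => (1 : R') ⊗ₜ[R] f j) = ⇑Algebra.TensorProduct.includeRight ∘ f from rfl,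
      ← h1]
    rfl
  refine hx.trans ?_
  rw [show (fun j => MvPolynomial.map (algebraMap R R') (f j)) =
    e.toRingEquiv ∘ fun j => (1 : R') ⊗ₜ[R] f j from funext fun j => ?_, Set.range_comp,
    ← Ideal.map_span e.toRingEquiv, Ideal.mem_map_iff_of_surjective _ e.toRingEquiv.surjective]
  · exact ⟨fun h => ⟨_, h, e.apply_symm_apply x⟩, by
      rintro ⟨y, hy, rfl⟩
      simpa using hy⟩
  · simp [e, algebraTensorAlgEquiv_tmul]

/-- Base change of a marked presentation. -/
noncomputable def baseChange (P : _root_.Smoothing.MarkedPresentation R A) :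
    _root_.Smoothing.MarkedPresentation R' (R' ⊗[R] A) where
  n := P.n
  m := P.m
  c := P.c
  hcn := P.hcn
  hcm := P.hcm
  rel j := MvPolynomial.map (algebraMap R R') (P.rel j)
  hom := baseChangeHom R' P.hom
  surj := baseChangeHom_surjective R' P.hom P.surj
  ker_eq := ker_baseChangeHom R' P.hom P.surj P.rel P.ker_eq

lemma baseChange_hom_map (P : _root_.Smoothing.MarkedPresentation R A)
    (p : MvPolynomial (Fin P.n) R) :
    (baseChange R' P).hom (MvPolynomial.map (algebraMap R R') p) = (1 : R') ⊗ₜ[R] P.hom p :=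
  baseChangeHom_map R' P.hom p

lemma map_jacobianMinor (P : _root_.Smoothing.MarkedPresentation R A) (rows : Fin P.c → Fin P.m)
    (cols : Fin P.c → Fin P.n) :
    _root_.Smoothing.jacobianMinor (baseChange R' P).rel rows cols =
      MvPolynomial.map (algebraMap R R') (_root_.Smoothing.jacobianMinor P.rel rows cols) := by
  rw [_root_.Smoothing.jacobianMinor, _root_.Smoothing.jacobianMinor, RingHom.map_det]
  congr 1
  refine Matrix.ext fun i k => ?_
  exact pderiv_map

lemma killsTail_baseChange (P : _root_.Smoothing.MarkedPresentation R A) (a : A)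
    (h : _root_.Smoothing.KillsTail P a) :
    _root_.Smoothing.KillsTail (baseChange R' P) ((1 : R') ⊗ₜ[R] a) := by
  intro t ht j hj
  obtain ⟨t₀, ht₀⟩ := P.surj a
  have h' := Ideal.mem_map_of_mem (MvPolynomial.map (algebraMap R R')) (h t₀ ht₀ j hj)
  rw [Ideal.map_sup, Ideal.map_pow, Ideal.map_span, Ideal.map_span, ← Set.range_comp,
    ← Set.image_comp, map_mul] at h'
  let m₀ : MvPolynomial (Fin (baseChange R' P).n) R' := MvPolynomial.map (algebraMap R R') t₀
  rw [show t * (baseChange R' P).rel j =
    m₀ * (baseChange R' P).rel j + (t - m₀) * (baseChange R' P).rel j by ring]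
  refine add_mem h' (Ideal.mem_sup_right ?_)
  rw [pow_two]
  refine Ideal.mul_mem_mul ?_ (Ideal.subset_span ⟨j, rfl⟩)
  rw [← (baseChange R' P).ker_eq, RingHom.mem_ker]
  change (baseChange R' P).hom (t - _) = 0
  rw [map_sub, ht, show (baseChange R' P).hom m₀ = _ from baseChange_hom_map R' P t₀, ht₀, sub_self]

end Groth.Agent.Smoothing
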